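import Mathlib

namespace Cfsg.Agent.Spectrum

open Polynomial Matrix

section Upper

variable {F : Type*} [Field F] [Fintype F]

theorem irreducible_dvd_X_pow_sub_one {f : F[X]} (hf : Irreducible f) (hX : ¬ f ∣ X) :
    f ∣ X ^ (Fintype.card F ^ f.natDegree - 1) - 1 := by
  haveI := Fact.mk hf
  have hf0 : f ≠ 0 := hf.ne_zero
  haveI : Module.Finite F (AdjoinRoot f) := (AdjoinRoot.powerBasis hf0).finite
  haveI : Finite (AdjoinRoot f) := Module.finite_of_finite F
  haveI := Fintype.ofFinite (AdjoinRoot f)
  have hcard : Fintype.card (AdjoinRoot f) = Fintype.card F ^ f.natDegree := by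
    rw [Module.card_eq_pow_finrank (K := F), (AdjoinRoot.powerBasis hf0).finrank,
      AdjoinRoot.powerBasis_dim]
  have hroot : (AdjoinRoot.root f) ≠ 0 := by
    intro h
    apply hX
    rw [← AdjoinRoot.mk_eq_zero, AdjoinRoot.mk_X, h]
  rw [← AdjoinRoot.mk_eq_zero, map_sub, map_pow, AdjoinRoot.mk_X, map_one, ← hcard,
    FiniteField.pow_card_sub_one_eq_one _ hroot, sub_self]

/-- An invertible `n × n` matrix over a finite field has order dividing
`p ^ T * lcm (q ^ d - 1 : 1 ≤ d ≤ n)` for `n ≤ p ^ T`. -/
theorem pow_exponent_eq_one {p : ℕ} [Fact p.Prime] [CharP F p] {ι : Type*} [Fintype ι] [DecidableEq ι]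
    (M : Matrix ι ι F) (hM : M.det ≠ 0) (T : ℕ) (hT : Fintype.card ι ≤ p ^ T) :
    M ^ ((Finset.Icc 1 (Fintype.card ι)).lcm (fun d => Fintype.card F ^ d - 1) * p ^ T) = 1 := by
  classical
  set L := (Finset.Icc 1 (Fintype.card ι)).lcm (fun d => Fintype.card F ^ d - 1)
  set h : F[X] := X ^ L - 1
  have hχ0 : M.charpoly ≠ 0 := M.charpoly_monic.ne_zero
  have hcoeff : M.charpoly.coeff 0 ≠ 0 := by
    intro h0
    apply hM
    rw [det_eq_sign_charpoly_coeff, h0, mul_zero]
  have hfac : ∀ f ∈ UniqueFactorizationMonoid.normalizedFactors M.charpoly, f ∣ h := by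
    intro f hf
    have hirr := UniqueFactorizationMonoid.irreducible_of_normalized_factor f hf
    have hdvd := UniqueFactorizationMonoid.dvd_of_mem_normalizedFactors hf
    have hX : ¬ f ∣ X := by
      intro hfX
      have := (hirr.associated_of_dvd irreducible_X hfX).dvd_iff_dvd_left.mp hdvd
      exact hcoeff (X_dvd_iff.mp this)
    have hdeg : f.natDegree ∈ Finset.Icc 1 (Fintype.card ι) := by
      refine Finset.mem_Icc.mpr ⟨hirr.natDegree_pos, ?_⟩
      exact (natDegree_le_of_dvd hdvd hχ0).trans (charpoly_natDegree_eq_dim M).le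
    refine (irreducible_dvd_X_pow_sub_one hirr hX).trans ?_
    obtain ⟨c, hc⟩ : Fintype.card F ^ f.natDegree - 1 ∣ L := Finset.dvd_lcm hdeg
    show _ ∣ X ^ L - 1
    rw [hc, pow_mul]
    simpa using sub_dvd_pow_sub_pow ((X : F[X]) ^ (Fintype.card F ^ f.natDegree - 1)) 1 c
  have hcard : Multiset.card (UniqueFactorizationMonoid.normalizedFactors M.charpoly)
      ≤ Fintype.card ι := by
    have hprod := UniqueFactorizationMonoid.prod_normalizedFactors hχ0
    have hdeg : (UniqueFactorizationMonoid.normalizedFactors M.charpoly).prod.natDegree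
        = Fintype.card ι := by
      rw [natDegree_eq_of_degree_eq (degree_eq_degree_of_associated hprod), charpoly_natDegree_eq_dim]
    rw [natDegree_multiset_prod _ (UniqueFactorizationMonoid.zero_notMem_normalizedFactors _)] at hdeg
    have := Multiset.card_nsmul_le_sum
      (s := (UniqueFactorizationMonoid.normalizedFactors M.charpoly).map natDegree) (a := 1)
      (by
        intro x hx
        obtain ⟨f, hf, rfl⟩ := Multiset.mem_map.mp hx
        exact (UniqueFactorizationMonoid.irreducible_of_normalized_factor f hf).natDegree_pos)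
    simp at this
    omega
  have hdvd : M.charpoly ∣ X ^ (L * p ^ T) - 1 := by
    refine (UniqueFactorizationMonoid.prod_normalizedFactors hχ0).symm.dvd.trans ?_
    have h1 : (UniqueFactorizationMonoid.normalizedFactors M.charpoly).prod ∣
        h ^ Multiset.card (UniqueFactorizationMonoid.normalizedFactors M.charpoly) := by
      have := Multiset.prod_dvd_prod_of_dvd (S := UniqueFactorizationMonoid.normalizedFactors M.charpoly)
        id (fun _ => h) hfac
      simpa [Multiset.map_const', Multiset.prod_replicate] using this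
    refine (h1.trans (pow_dvd_pow h (hcard.trans hT))).trans ?_
    show (X ^ L - 1) ^ p ^ T ∣ _
    rw [sub_pow_char_pow, one_pow, pow_mul]
  obtain ⟨c, hc⟩ := hdvd
  have := congrArg (aeval M) hc
  rw [map_mul, aeval_self_charpoly, zero_mul, map_sub, map_pow, aeval_X, map_one, sub_eq_zero] at this
  exact this

end Upper

section Elements

variable {F : Type*} [Field F] [Fintype F]

/-- A Singer cycle in `GL_d` placed in a bigger matrix group. -/
theorem exists_orderOf_eq_pow_sub_one {n d : ℕ} (hd : 1 ≤ d) (hdn : d ≤ n) :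
    ∃ M : Matrix (Fin n) (Fin n) F, M.det ≠ 0 ∧ orderOf M = Fintype.card F ^ d - 1 := by
  classical
  obtain ⟨p, hp⟩ := CharP.exists F
  haveI := Fact.mk (CharP.char_is_prime F p)
  haveI : NeZero d := ⟨by omega⟩
  letI K := FiniteField.Extension F p d
  haveI := Fintype.ofFinite (FiniteField.Extension F p d)
  obtain ⟨u, hu⟩ := IsCyclic.exists_ofOrder_eq_natCard (α := (FiniteField.Extension F p d)ˣ)
  let b := Module.finBasisOfFinrankEq F (FiniteField.Extension F p d) (FiniteField.finrank_extension F p d)
  let L : (FiniteField.Extension F p d) →* Matrix (Fin d) (Fin d) F :=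
    (Algebra.leftMulMatrix b).toRingHom.toMonoidHom
  have hL : Function.Injective L := Algebra.leftMulMatrix_injective b
  let B : Matrix (Fin d) (Fin d) F →* Matrix (Fin d ⊕ Fin (n - d)) (Fin d ⊕ Fin (n - d)) F :=
    { toFun := fun A => fromBlocks A 0 0 1
      map_one' := fromBlocks_one
      map_mul' := fun A A' => by simp [fromBlocks_multiply] }
  have hB : Function.Injective B := fun A A' h => (fromBlocks_inj.mp h).1
  let e : Fin d ⊕ Fin (n - d) ≃ Fin n := finSumFinEquiv.trans (finCongr (by omega))
  let R : Matrix (Fin d ⊕ Fin (n - d)) (Fin d ⊕ Fin (n - d)) F ≃* Matrix (Fin n) (Fin n) F :=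
    (Matrix.reindexAlgEquiv F F e).toMulEquiv
  have hord : orderOf (R (B (L u))) = Fintype.card F ^ d - 1 := by
    rw [MulEquiv.orderOf_eq, orderOf_injective B hB, orderOf_injective L hL, orderOf_units, hu,
      Nat.card_units, FiniteField.natCard_extension, Nat.card_eq_fintype_card]
  refine ⟨R (B (L u)), ?_, hord⟩
  have hunit : IsUnit (R (B (L u))) :=
    (((Units.isUnit u).map L).map B).map R.toMonoidHom
  exact ((Matrix.isUnit_iff_isUnit_det _).mp hunit).ne_zero

/-- The nilpotent shift matrix. -/
def shiftMatrix (n : ℕ) (F : Type*) [Zero F] [One F] : Matrix (Fin n) (Fin n) F :=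
  Matrix.of fun i j => if (i : ℕ) = (j : ℕ) + 1 then 1 else 0

theorem shiftMatrix_pow (n k : ℕ) (i j : Fin n) :
    ((shiftMatrix n F) ^ k) i j = if (i : ℕ) = (j : ℕ) + k then (1 : F) else 0 := by
  induction k generalizing i j with
  | zero => simp [Matrix.one_apply, Fin.ext_iff]
  | succ k ih =>
    rw [pow_succ, Matrix.mul_apply]
    by_cases h : (j : ℕ) + 1 < n
    · rw [Finset.sum_eq_single ⟨(j : ℕ) + 1, h⟩]
      · rw [ih]; simp [shiftMatrix, add_assoc, add_comm k 1]
      · intro b _ hb
        have : ¬ (b : ℕ) = (j : ℕ) + 1 := fun hb' => hb (Fin.ext hb')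
        simp [shiftMatrix, this]
      · simp
    · rw [Finset.sum_eq_zero, if_neg (by have := i.isLt; omega)]
      intro b _
      have : ¬ (b : ℕ) = (j : ℕ) + 1 := by have := b.isLt; omega
      simp [shiftMatrix, this]

theorem shiftMatrix_pow_eq_zero_iff (n k : ℕ) : (shiftMatrix n F) ^ k = 0 ↔ n ≤ k := by
  constructor
  · intro h
    by_contra hk
    rw [not_le] at hk
    have := congrFun (congrFun h ⟨k, hk⟩) ⟨0, by omega⟩
    rw [shiftMatrix_pow] at this
    simp at this
  · intro hk
    ext i j
    rw [shiftMatrix_pow, if_neg (by have := i.isLt; omega)]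
    rfl

/-- The regular unipotent matrix has order the least power of `p` that is at least `n`. -/
theorem orderOf_one_add_shiftMatrix {p : ℕ} [Fact p.Prime] [CharP F p] {n T : ℕ}
    (h1 : p ^ T < n) (h2 : n ≤ p ^ (T + 1)) :
    orderOf (1 + shiftMatrix n F) = p ^ (T + 1) := by
  haveI : NeZero n := ⟨by omega⟩
  apply orderOf_eq_prime_pow
  · rw [add_pow_char_pow_of_commute p _ (Commute.one_left _), one_pow, add_eq_left,
      shiftMatrix_pow_eq_zero_iff]
    omega
  · rw [add_pow_char_pow_of_commute p _ (Commute.one_left _), one_pow, add_eq_left,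
      shiftMatrix_pow_eq_zero_iff]
    omega

theorem det_one_add_shiftMatrix_ne_zero {p : ℕ} [Fact p.Prime] [CharP F p] {n T : ℕ}
    (h1 : p ^ T < n) (h2 : n ≤ p ^ (T + 1)) :
    (1 + shiftMatrix n F).det ≠ 0 := by
  haveI : NeZero n := ⟨by omega⟩
  have h := orderOf_one_add_shiftMatrix (F := F) h1 h2
  have hpos : 0 < p ^ (T + 1) := by omega
  have hunit : IsUnit (1 + shiftMatrix n F) :=
    IsOfFinOrder.isUnit (orderOf_pos_iff.mp (by omega))
  exact ((Matrix.isUnit_iff_isUnit_det _).mp hunit).ne_zero

end Elements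

end Cfsg.Agent.Spectrum
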