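import Cfsg.Agent.Spectrum.Linear
import Cfsg.Agent.Linear.Torus

/-! Elements of prescribed order in finite symplectic groups. -/

namespace Cfsg.Agent.Spectrum

open Matrix

section Basic

variable {F : Type*} [Field F]

/-- The block sum of two symplectic matrices. -/
def spBlockEquiv (a b : ℕ) : (Fin a ⊕ Fin a) ⊕ (Fin b ⊕ Fin b) ≃ Fin (a + b) ⊕ Fin (a + b) :=
  (Equiv.sumSumSumComm _ _ _ _).trans (Equiv.sumCongr finSumFinEquiv finSumFinEquiv)

theorem reindex_J (a b : ℕ) :
    Matrix.reindex (spBlockEquiv a b) (spBlockEquiv a b)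
      (fromBlocks (Matrix.J (Fin a) F) 0 0 (Matrix.J (Fin b) F)) = Matrix.J (Fin (a + b)) F := by
  have h : ∀ i j, fromBlocks (Matrix.J (Fin a) F) 0 0 (Matrix.J (Fin b) F) i j =
      Matrix.J (Fin (a + b)) F (spBlockEquiv a b i) (spBlockEquiv a b j) := by
    rintro ((i | i) | (i | i)) ((j | j) | (j | j)) <;>
      simp [spBlockEquiv, Matrix.J, Matrix.one_apply, Fin.ext_iff] <;> omega
  ext i j
  rw [Matrix.reindex_apply, Matrix.submatrix_apply, h, Equiv.apply_symm_apply, Equiv.apply_symm_apply]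

/-- The block sum `Sp_2a × Sp_2b → Sp_2(a+b)`. -/
def spBlock (a b : ℕ) :
    Matrix.symplecticGroup (Fin a) F × Matrix.symplecticGroup (Fin b) F →* Matrix.symplecticGroup (Fin (a + b)) F where
  toFun x := ⟨Matrix.reindexAlgEquiv F F (spBlockEquiv a b)
      (fromBlocks (x.1 : Matrix _ _ F) 0 0 (x.2 : Matrix _ _ F)), by
    have h1 := SymplecticGroup.mem_iff.mp x.1.2
    have h2 := SymplecticGroup.mem_iff.mp x.2.2
    have hJ : Matrix.J (Fin (a + b)) F = Matrix.reindexAlgEquiv F F (spBlockEquiv a b)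
        (fromBlocks (Matrix.J (Fin a) F) 0 0 (Matrix.J (Fin b) F)) := (reindex_J a b).symm
    have hT : ∀ M, (Matrix.reindexAlgEquiv F F (spBlockEquiv a b) M)ᵀ =
        Matrix.reindexAlgEquiv F F (spBlockEquiv a b) Mᵀ := fun M => Matrix.transpose_reindex _ _ _
    rw [SymplecticGroup.mem_iff, hJ, hT, ← map_mul, ← map_mul, fromBlocks_transpose]
    simp [fromBlocks_multiply, h1, h2]⟩
  map_one' := Subtype.ext (by simp [fromBlocks_one])
  map_mul' x y := Subtype.ext (by simp [← map_mul, fromBlocks_multiply])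

theorem spBlock_injective (a b : ℕ) : Function.Injective (spBlock (F := F) a b) := by
  intro x y h
  have h' := (Matrix.reindexAlgEquiv F F (spBlockEquiv a b)).injective (congrArg Subtype.val h)
  rw [fromBlocks_inj] at h'
  exact Prod.ext (Subtype.ext h'.1) (Subtype.ext h'.2.2.2)

/-- `Sp_2a` contains an element of order divisible by `L`. -/
def HasOrd (F : Type*) [Field F] (a L : ℕ) : Prop :=
  ∃ g : Matrix.symplecticGroup (Fin a) F, L ∣ orderOf g

theorem hasOrd_add {a b L M : ℕ} (h1 : HasOrd F a L) (h2 : HasOrd F b M) :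
    HasOrd F (a + b) (Nat.lcm L M) := by
  obtain ⟨g, hg⟩ := h1
  obtain ⟨h, hh⟩ := h2
  refine ⟨spBlock a b (g, h), ?_⟩
  rw [orderOf_injective _ (spBlock_injective a b), Prod.orderOf]
  exact Nat.lcm_dvd (hg.trans (Nat.dvd_lcm_left _ _)) (hh.trans (Nat.dvd_lcm_right _ _))

theorem hasOrd_one (a : ℕ) : HasOrd F a 1 := ⟨1, one_dvd _⟩

theorem hasOrd_mono {a b L : ℕ} (hab : a ≤ b) (h : HasOrd F a L) : HasOrd F b L := by
  obtain ⟨c, rfl⟩ := Nat.exists_eq_add_of_le hab
  simpa using hasOrd_add h (hasOrd_one (F := F) c)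

/-- Lower unipotent regular element of `Sp_2m`. -/
theorem exists_unipotent {p : ℕ} [Fact p.Prime] [CharP F p] [Finite F] {m j : ℕ} (hm : 1 ≤ m)
    (hj : p ^ j < 2 * m) : HasOrd F m (p ^ (j + 1)) := by
  classical
  haveI := Fintype.ofFinite F
  haveI : NeZero m := ⟨by omega⟩
  set N := shiftMatrix m F
  set A : Matrix (Fin m) (Fin m) F := 1 + N with hA
  have hNnil : IsNilpotent N := ⟨m, (shiftMatrix_pow_eq_zero_iff m m).mpr le_rfl⟩
  have hAu : IsUnit A := hNnil.isUnit_one_add
  have hAdet : IsUnit A.det := (Matrix.isUnit_iff_isUnit_det _).mp hAu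
  set B : Matrix (Fin m) (Fin m) F := (A⁻¹)ᵀ with hB
  set E : Matrix (Fin m) (Fin m) F := Matrix.single 0 0 1 with hE
  set U : Matrix (Fin m ⊕ Fin m) (Fin m ⊕ Fin m) F := fromBlocks A (A * E) 0 B with hU
  have hU1 : fromBlocks A 0 0 B ∈ Matrix.symplecticGroup (Fin m) F := by
    rw [SymplecticGroup.mem_iff]
    simp [fromBlocks_transpose, Matrix.J, fromBlocks_multiply, hB, Matrix.mul_nonsing_inv _ hAdet,
      ← Matrix.transpose_mul, Matrix.nonsing_inv_mul _ hAdet]
  have hU2 : fromBlocks 1 E 0 1 ∈ Matrix.symplecticGroup (Fin m) F := by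
    rw [SymplecticGroup.mem_iff]
    simp [fromBlocks_transpose, Matrix.J, fromBlocks_multiply, hE]
  have hUmem : U ∈ Matrix.symplecticGroup (Fin m) F := by
    have := (Matrix.symplecticGroup (Fin m) F).mul_mem hU1 hU2
    simpa [hU, fromBlocks_multiply] using this
  -- powers of `U - 1`
  set R := B - 1 with hR
  have hsub : U - 1 = fromBlocks N (A * E) 0 R := by
    rw [sub_eq_iff_eq_add, hU, ← fromBlocks_one, fromBlocks_add]
    simp [hA, hR, add_comm N]
  have hpow : ∀ k : ℕ, ∃ Y, (U - 1) ^ (k + 1) = fromBlocks (N ^ (k + 1)) Y 0 (R ^ (k + 1)) ∧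
      N ^ (m - 1) * Y = N ^ (m - 1) * (A * E) * R ^ k := by
    intro k
    induction k with
    | zero => exact ⟨A * E, by simp [hsub], by simp⟩
    | succ k ih =>
      obtain ⟨Y, h1, h2⟩ := ih
      refine ⟨N * Y + (A * E) * R ^ (k + 1), ?_, ?_⟩
      · rw [pow_succ' (U - 1), h1, hsub, fromBlocks_multiply, ← pow_succ', ← pow_succ']
        simp
      · rw [mul_add, ← mul_assoc (N ^ (m - 1)) N Y, ← pow_succ, Nat.sub_add_cancel (show 1 ≤ m from hm),
          (shiftMatrix_pow_eq_zero_iff m m).mpr le_rfl, zero_mul, zero_add, mul_assoc (N ^ (m - 1))]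
  have hBA : B * Aᵀ = 1 := by
    rw [hB, ← Matrix.transpose_mul, Matrix.mul_nonsing_inv _ hAdet, Matrix.transpose_one]
  have hR' : R = -(B * Nᵀ) := by
    have : Nᵀ = Aᵀ - 1 := by simp [hA]
    rw [this, mul_sub, hBA, hR, mul_one]; abel
  have hcomm : Commute B Nᵀ := by
    have hc0 : Aᵀ * Nᵀ = Nᵀ * Aᵀ := by simp [hA, mul_add, add_mul]
    calc B * Nᵀ = B * (Nᵀ * Aᵀ) * B := by
          rw [mul_assoc, mul_assoc, mul_eq_one_comm.mp hBA, mul_one]
      _ = B * (Aᵀ * Nᵀ) * B := by rw [hc0]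
      _ = Nᵀ * B := by rw [← mul_assoc, hBA, one_mul]
  have hNk : N ^ m = 0 := (shiftMatrix_pow_eq_zero_iff m m).mpr le_rfl
  have hRm : R ^ m = 0 := by
    rw [hR', neg_pow, hcomm.mul_pow, ← Matrix.transpose_pow N m, hNk, Matrix.transpose_zero, mul_zero, mul_zero]
  have hne : (U - 1) ^ (2 * m - 1) ≠ 0 := by
    intro h0
    obtain ⟨k, hk⟩ : ∃ k, m = k + 1 := ⟨m - 1, by omega⟩
    obtain ⟨Y, h1, h2⟩ := hpow k
    rw [← hk] at h1
    have h3 : (U - 1) ^ (2 * m - 1) = (U - 1) ^ k * (U - 1) ^ m := by rw [← pow_add]; congr 1; omega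
    have hkm : m - 1 = k := by omega
    rw [hkm] at h2
    have hcorner : (U - 1) ^ k * (U - 1) ^ m = fromBlocks 0 (N ^ k * Y) 0 0 := by
      rcases Nat.eq_zero_or_pos k with rfl | hk0
      · rw [pow_zero, one_mul, h1, pow_zero, one_mul, hNk, hRm]
      · obtain ⟨l, rfl⟩ : ∃ l, k = l + 1 := ⟨k - 1, by omega⟩
        obtain ⟨Y', h1', -⟩ := hpow l
        rw [h1', h1, fromBlocks_multiply, hNk, hRm]
        simp
    rw [h3, hcorner, h2, ← fromBlocks_zero, fromBlocks_inj] at h0
    -- the entry in position `(m - 1, m - 1)`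
    obtain ⟨hz, -⟩ := h0.2
    have hRk : R ^ k = (-1) ^ k * (Nᵀ) ^ k := by
      have hNA : ∀ i : ℕ, B ^ i * (Nᵀ) ^ k = (Nᵀ) ^ k := by
        intro i
        induction i with
        | zero => simp
        | succ i ih =>
          rw [pow_succ, mul_assoc]
          have : Aᵀ * (Nᵀ) ^ k = (Nᵀ) ^ k := by
            rw [hA, Matrix.transpose_add, Matrix.transpose_one, add_mul, one_mul, ← pow_succ', ← hk,
              ← Matrix.transpose_pow N m, hNk, Matrix.transpose_zero, add_zero]
          rw [show B * (Nᵀ) ^ k = (Nᵀ) ^ k by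
            conv_lhs => rw [← this, ← mul_assoc, hBA, one_mul], ih]
      rw [hR', neg_pow, hcomm.mul_pow, hNA k]
    rw [hRk] at hz
    have hentry := congrFun (congrFun hz ⟨k, by omega⟩) ⟨k, by omega⟩
    have hNs : N ^ k = Matrix.single (⟨k, by omega⟩ : Fin m) 0 1 := by
      ext a c
      rw [shiftMatrix_pow, Matrix.single_apply]
      have := a.isLt
      by_cases h : (a : ℕ) = (c : ℕ) + k
      · rw [if_pos h, if_pos ⟨Fin.ext (show k = (a : ℕ) by omega), Fin.ext (show 0 = (c : ℕ) by omega)⟩]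
      · rw [if_neg h, if_neg]
        rintro ⟨rfl, rfl⟩
        exact h (show k = 0 + k by omega)
    have hval : (A * E) 0 0 = 1 := by
      rw [hE, Matrix.mul_single_apply_same, mul_one, hA]
      simp [N, shiftMatrix]
    rw [← Matrix.transpose_pow, hNs, Matrix.transpose_single] at hentry
    rcases neg_one_pow_eq_or (Matrix (Fin m) (Fin m) F) k with hs | hs <;>
      · rw [hs] at hentry
        simp [Matrix.single_mul_mul_single, hval] at hentry
  refine ⟨⟨U, hUmem⟩, ?_⟩
  let toM : Matrix.symplecticGroup (Fin m) F →* Matrix (Fin m ⊕ Fin m) (Fin m ⊕ Fin m) F :=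
    (Matrix.symplecticGroup (Fin m) F).subtype
  have hord : orderOf (⟨U, hUmem⟩ : Matrix.symplecticGroup (Fin m) F) = orderOf U :=
    (orderOf_injective toM Subtype.val_injective _).symm
  rw [hord]
  have hUeq : U = 1 + (U - 1) := by abel
  have hUnil : ∃ T, (U - 1) ^ p ^ T = 0 := by
    obtain ⟨T, hT⟩ := pow_unbounded_of_one_lt (2 * m) (Fact.out : p.Prime).one_lt
    refine ⟨T, ?_⟩
    obtain ⟨Y, hY, -⟩ := hpow (m - 1)
    rw [Nat.sub_add_cancel (show 1 ≤ m from hm), hNk, hRm] at hY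
    obtain ⟨c, hc⟩ := Nat.exists_eq_add_of_le hT.le
    rw [hc, pow_add, two_mul, pow_add, hY, fromBlocks_multiply]
    simp [fromBlocks_zero]
  obtain ⟨T, hT⟩ := hUnil
  have hTp : U ^ p ^ T = 1 := by
    rw [hUeq, add_pow_char_pow_of_commute p _ (Commute.one_left _), one_pow, hT, add_zero]
  obtain ⟨i, -, hi⟩ := (Nat.dvd_prime_pow Fact.out).mp (orderOf_dvd_of_pow_eq_one hTp)
  rw [hi]
  apply pow_dvd_pow
  by_contra hij
  have h1 : U ^ p ^ j = 1 := orderOf_dvd_iff_pow_eq_one.mp (hi ▸ pow_dvd_pow p (by omega))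
  rw [hUeq, add_pow_char_pow_of_commute p _ (Commute.one_left _), one_pow, add_eq_left] at h1
  exact hne (pow_eq_zero_of_le (by omega) h1)

end Basic

section Torus

variable (F : Type*) [Field F] [Fintype F]

/-- `SL_2(q^d)` inside `Sp_2d(q)` gives the tori of orders `q ^ d ± 1`. -/
theorem exists_torus_sp {d : ℕ} (hd : 1 ≤ d) (N : ℕ)
    (hN : N = Fintype.card F ^ d - 1 ∨ N = Fintype.card F ^ d + 1) :
    ∃ g : Matrix.symplecticGroup (Fin d) F, orderOf g = N := by
  classical
  obtain ⟨p, hp⟩ := CharP.exists F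
  haveI := Fact.mk (CharP.char_is_prime F p)
  haveI : NeZero d := ⟨by omega⟩
  letI := Fintype.ofFinite (FiniteField.Extension F p d)
  let b := Module.finBasisOfFinrankEq F (FiniteField.Extension F p d) (FiniteField.finrank_extension F p d)
  let L := Algebra.leftMulMatrix b
  set S : Matrix (Fin d) (Fin d) F := (Algebra.traceForm F (FiniteField.Extension F p d)).toMatrix b with hS
  have hSdet : IsUnit S.det := isUnit_iff_ne_zero.mpr (det_traceForm_ne_zero b)
  have hSij : ∀ i j, S i j = Algebra.trace F (FiniteField.Extension F p d) (b i * b j) := fun i j => by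
    rw [hS, LinearMap.BilinForm.toMatrix_apply]; rfl
  have hSL : ∀ α, S * L α = (L α)ᵀ * S := by
    have hentry : ∀ α i j, (S * L α) i j = Algebra.trace F (FiniteField.Extension F p d) (b i * (α * b j)) := by
      intro α i j
      conv_rhs => rw [← b.sum_repr (α * b j), Finset.mul_sum, map_sum]
      rw [Matrix.mul_apply]
      refine Finset.sum_congr rfl fun k _ => ?_
      rw [mul_smul_comm, map_smul, smul_eq_mul, hSij, Algebra.leftMulMatrix_eq_repr_mul, mul_comm]
    intro α
    have hsymm : Sᵀ = S := by ext i j; rw [Matrix.transpose_apply, hSij, hSij, mul_comm]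
    ext i j
    have h2 : ((L α)ᵀ * S) i j = (S * L α) j i := by
      conv_lhs => rw [← hsymm, ← Matrix.transpose_mul, Matrix.transpose_apply]
    rw [h2, hentry, hentry]
    congr 1; ring
  set D : Matrix (Fin d ⊕ Fin d) (Fin d ⊕ Fin d) F := fromBlocks 1 0 0 S⁻¹ with hD
  set D' : Matrix (Fin d ⊕ Fin d) (Fin d ⊕ Fin d) F := fromBlocks 1 0 0 S with hD'
  have hDD' : D * D' = 1 := by
    simp [hD, hD', fromBlocks_multiply, Matrix.nonsing_inv_mul _ hSdet, fromBlocks_one]
  let lift : Matrix (Fin 2) (Fin 2) (FiniteField.Extension F p d) → Matrix (Fin d ⊕ Fin d) (Fin d ⊕ Fin d) F :=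
    fun M => fromBlocks (L (M 0 0)) (L (M 0 1)) (L (M 1 0)) (L (M 1 1))
  have hlift_mul : ∀ M M', lift (M * M') = lift M * lift M' := by
    intro M M'
    simp [lift, fromBlocks_multiply, Matrix.mul_apply, Fin.sum_univ_two, map_add, map_mul]
  have hlift_one : lift 1 = 1 := by simp [lift, fromBlocks_one]
  have hmem : ∀ M : Matrix.SpecialLinearGroup (Fin 2) (FiniteField.Extension F p d),
      D' * lift M.1 * D ∈ Matrix.symplecticGroup (Fin d) F := by
    intro M
    rw [SymplecticGroup.mem_iff']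
    set K0 : Matrix (Fin d ⊕ Fin d) (Fin d ⊕ Fin d) F := fromBlocks 0 (-S) S 0 with hK0
    have hsymm : Sᵀ = S := by ext i j; rw [Matrix.transpose_apply, hSij, hSij, mul_comm]
    have h1 : D'ᵀ * Matrix.J (Fin d) F * D' = K0 := by
      simp [hD', hK0, fromBlocks_transpose, Matrix.J, fromBlocks_multiply, hsymm]
    have hdet : M.1 0 0 * M.1 1 1 - M.1 0 1 * M.1 1 0 = 1 := by
      rw [← Matrix.det_fin_two]; exact M.2
    have h2 : (lift M.1)ᵀ * K0 * lift M.1 = K0 := by
      simp only [lift, hK0, fromBlocks_transpose, fromBlocks_multiply, mul_zero, zero_mul, zero_add, add_zero,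
        mul_neg, neg_mul, ← hSL]
      simp only [mul_assoc, ← map_mul, ← Matrix.mul_neg, ← mul_add, ← map_neg, ← map_add]
      refine fromBlocks_inj.mpr ⟨?_, ?_, ?_, ?_⟩
      · rw [show (M.1 1 0 * M.1 0 0 + -(M.1 0 0 * M.1 1 0) : FiniteField.Extension F p d) = 0 by ring, map_zero, mul_zero]
      · rw [show (M.1 1 0 * M.1 0 1 + -(M.1 0 0 * M.1 1 1) : FiniteField.Extension F p d) = -1 by linear_combination -hdet,
          map_neg, map_one, mul_neg, mul_one]
      · rw [show (M.1 1 1 * M.1 0 0 + -(M.1 0 1 * M.1 1 0) : FiniteField.Extension F p d) = 1 by linear_combination hdet,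
          map_one, mul_one]
      · rw [show (M.1 1 1 * M.1 0 1 + -(M.1 0 1 * M.1 1 1) : FiniteField.Extension F p d) = 0 by ring, map_zero, mul_zero]
    calc (D' * lift M.1 * D)ᵀ * Matrix.J (Fin d) F * (D' * lift M.1 * D)
        = Dᵀ * ((lift M.1)ᵀ * (D'ᵀ * Matrix.J (Fin d) F * D') * lift M.1) * D := by
          simp [Matrix.transpose_mul, mul_assoc]
      _ = Dᵀ * K0 * D := by rw [h1, h2]
      _ = (D' * D)ᵀ * Matrix.J (Fin d) F * (D' * D) := by rw [← h1]; simp [Matrix.transpose_mul, mul_assoc]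
      _ = _ := by rw [mul_eq_one_comm.mp hDD']; simp
  let φ : Matrix.SpecialLinearGroup (Fin 2) (FiniteField.Extension F p d) →* Matrix.symplecticGroup (Fin d) F :=
    { toFun := fun M => ⟨_, hmem M⟩
      map_one' := Subtype.ext (by simp [hlift_one, mul_eq_one_comm.mp hDD'])
      map_mul' := fun M M' => Subtype.ext (by
        show D' * lift (M * M').1 * D = (D' * lift M.1 * D) * (D' * lift M'.1 * D)
        rw [Matrix.SpecialLinearGroup.coe_mul, hlift_mul]
        calc D' * (lift M.1 * lift M'.1) * D = D' * lift M.1 * (D * D') * lift M'.1 * D := by rw [hDD']; simp [mul_assoc]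
          _ = _ := by simp [mul_assoc]) }
  have hφ : Function.Injective φ := by
    intro M M' h
    have h' : D' * lift M.1 * D = D' * lift M'.1 * D := congrArg Subtype.val h
    have h'' : lift M.1 = lift M'.1 := by
      have := congrArg (fun X => D * X * D') h'
      simpa [← mul_assoc, hDD', mul_assoc _ D D'] using this
    have hL : Function.Injective L := Algebra.leftMulMatrix_injective b
    obtain ⟨a1, a2, a3, a4⟩ := fromBlocks_inj.mp h''
    apply Subtype.ext
    ext i j
    fin_cases i <;> fin_cases j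
    exacts [hL a1, hL a2, hL a3, hL a4]
  have hcardK : Fintype.card (FiniteField.Extension F p d) = Fintype.card F ^ d := by
    rw [← Nat.card_eq_fintype_card, FiniteField.natCard_extension, Nat.card_eq_fintype_card]
  obtain ⟨a, x, ha, -⟩ := Linear.exists_torus (F := FiniteField.Extension F p d) N (by rwa [hcardK])
  exact ⟨φ a, by rw [orderOf_injective φ hφ]; exact ha⟩

end Torus

end Cfsg.Agent.Spectrum
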