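import Cfsg.Agent.Spectrum.Linear
import Cfsg.Agent.ClassicalElem.Transpose

/-! The possible odd element orders in a finite symplectic group of odd characteristic. -/

namespace Cfsg.Agent.Spectrum

open Polynomial

variable {F : Type*} [Field F] [Fintype F]

/-- The order of the torus of type `t = (d, b)`: `q ^ d + 1` if `b`, else `q ^ d - 1`. -/
def torusOrd (q : ℕ) (t : ℕ × Bool) : ℕ := if t.2 then q ^ t.1 + 1 else q ^ t.1 - 1

theorem torusOrd_cases (q : ℕ) (t : ℕ × Bool) :
    torusOrd q t = q ^ t.1 - 1 ∨ torusOrd q t = q ^ t.1 + 1 := by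
  rcases t with ⟨d, _ | _⟩ <;> simp [torusOrd]

theorem not_dvd_torusOrd {p q : ℕ} [Fact p.Prime] (hq : p ∣ q) (hq0 : 1 ≤ q) {t : ℕ × Bool} (ht : 1 ≤ t.1) :
    ¬ p ∣ torusOrd q t := by
  intro h
  have hqd : p ∣ q ^ t.1 := dvd_pow hq (by omega)
  have hp := (Fact.out : p.Prime).one_lt
  have hpos : 1 ≤ q ^ t.1 := Nat.one_le_pow _ _ hq0
  rcases torusOrd_cases q t with h' | h' <;> rw [h'] at h
  · have := Nat.dvd_one.mp ((Nat.dvd_add_right h).mp (by rwa [Nat.sub_add_cancel hpos]))
    omega
  · have := Nat.dvd_one.mp ((Nat.dvd_add_right hqd).mp h)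
    omega

theorem symplectic_pow_mulVec {ι K : Type*} [Fintype ι] [DecidableEq ι] [CommRing K] {M : Matrix ι ι K}
    {μ : K} {v : ι → K} (h : M.mulVec v = μ • v) : ∀ k : ℕ, (M ^ k).mulVec v = μ ^ k • v := by
  intro k
  induction k with
  | zero => simp
  | succ k ih => rw [pow_succ', ← Matrix.mulVec_mulVec, ih, Matrix.mulVec_smul, h, smul_smul, pow_succ]

/-- A root of the characteristic polynomial in a field extension has order dividing that of the matrix,
and its inverse is again a root if the matrix is similar to its inverse. -/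
theorem eigen_facts {ι K : Type*} [Fintype ι] [DecidableEq ι] [Field K] [Algebra F K] (M M' : Matrix ι ι F)
    (hMM' : M * M' = 1) (hconj : IsConj M M') {a : ℕ} (hMa : M ^ a = 1) {μ : K}
    (hμ : aeval μ M.charpoly = 0) : μ ^ a = 1 ∧ aeval μ⁻¹ M.charpoly = 0 := by
  classical
  set MK := M.map (algebraMap F K) with hMK
  have hroot : ∀ x : K, aeval x M.charpoly = (Matrix.scalar ι x - MK).det := fun x => by
    rw [← eval_map_algebraMap, ← Matrix.charpoly_map, Matrix.eval_charpoly]
  obtain ⟨v, hv0, hv⟩ := Matrix.exists_mulVec_eq_zero_iff.mpr ((hroot μ).symm.trans hμ)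
  have hMv : MK.mulVec v = μ • v := by
    rw [Matrix.sub_mulVec, sub_eq_zero] at hv
    rw [← hv, Matrix.scalar_apply, ← Matrix.smul_one_eq_diagonal, Matrix.smul_mulVec, Matrix.one_mulVec]
  have hMKa : MK ^ a = 1 := by
    rw [hMK, show M.map (algebraMap F K) = (algebraMap F K).mapMatrix M from rfl, ← map_pow, hMa, map_one]
  have hμa : μ ^ a = 1 := by
    have h1 := symplectic_pow_mulVec hMv a
    rw [hMKa, Matrix.one_mulVec] at h1
    have h2 : (μ ^ a - 1) • v = 0 := by rw [sub_smul, one_smul, ← h1, sub_self]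
    exact sub_eq_zero.mp ((smul_eq_zero.mp h2).resolve_right hv0)
  refine ⟨hμa, ?_⟩
  obtain ⟨c, hc⟩ := hconj
  have hchar : M'.charpoly = M.charpoly := by
    have h1 : (c : Matrix ι ι F) * M * ((c⁻¹ : (Matrix ι ι F)ˣ) : Matrix ι ι F) = M' := by
      rw [show (c : Matrix ι ι F) * M = M' * c from hc, mul_assoc, Units.mul_inv, mul_one]
    rw [← h1]
    simpa [Matrix.coe_units_inv] using Matrix.charpoly_units_conj c M
  rw [← hchar, ← eval_map_algebraMap, ← Matrix.charpoly_map, Matrix.eval_charpoly]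
  refine Matrix.exists_mulVec_eq_zero_iff.mp ⟨v, hv0, ?_⟩
  rcases eq_or_ne μ 0 with rfl | hμ0
  · rw [zero_smul] at hMv
    exfalso
    apply hv0
    have : (M'.map (algebraMap F K)).mulVec (MK.mulVec v) = v := by
      rw [Matrix.mulVec_mulVec, hMK, ← Matrix.map_mul, mul_eq_one_comm.mp hMM']
      simp
    rw [hMv, Matrix.mulVec_zero] at this
    exact this.symm
  have hM'v : (M'.map (algebraMap F K)).mulVec v = μ⁻¹ • v := by
    have h1 : (M'.map (algebraMap F K)).mulVec (MK.mulVec v) = v := by
      rw [Matrix.mulVec_mulVec, hMK, ← Matrix.map_mul, mul_eq_one_comm.mp hMM']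
      simp
    rw [hMv, Matrix.mulVec_smul] at h1
    conv_rhs => rw [← h1, smul_smul, inv_mul_cancel₀ hμ0, one_smul]
  rw [Matrix.sub_mulVec, hM'v, Matrix.scalar_apply, ← Matrix.smul_one_eq_diagonal, Matrix.smul_mulVec,
    Matrix.one_mulVec, sub_self]

/-- Shape of the odd element orders of `Sp_2n(q)`, `q` odd. -/
theorem symplectic_odd_order {p : ℕ} [Fact p.Prime] [CharP F p] (hp2 : p ≠ 2) {n : ℕ}
    (g : Matrix.symplecticGroup (Fin n) F) (hodd : Odd (orderOf g)) :
    ∃ D : Finset (ℕ × Bool), (∀ t ∈ D, 1 ≤ t.1) ∧ ∑ t ∈ D, t.1 ≤ n ∧ ∃ j s : ℕ,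
      orderOf g = p ^ j * s ∧ s ∣ D.lcm (torusOrd (Fintype.card F)) ∧
      (1 ≤ j → ∃ m, 1 ≤ m ∧ p ^ (j - 1) < 2 * m ∧ (∑ t ∈ D, t.1) + m ≤ n) := by
  classical
  set q := Fintype.card F with hq
  obtain ⟨e', -, hqp⟩ := FiniteField.card F p
  set M : Matrix (Fin n ⊕ Fin n) (Fin n ⊕ Fin n) F := (g : Matrix (Fin n ⊕ Fin n) (Fin n ⊕ Fin n) F) with hM
  set a := orderOf g with ha
  have hMa : M ^ a = 1 := by
    rw [hM, ← SubmonoidClass.coe_pow, ha, pow_orderOf_eq_one]
    rfl
  have hconj : IsConj M ((g⁻¹ : Matrix.symplecticGroup (Fin n) F) : Matrix (Fin n ⊕ Fin n) (Fin n ⊕ Fin n) F) := by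
    refine (ClassicalElem.isConj_transpose _).trans ?_
    refine ⟨⟨-Matrix.J (Fin n) F, Matrix.J (Fin n) F, by simp [Matrix.J_squared], by simp [Matrix.J_squared]⟩, ?_⟩
    change -Matrix.J (Fin n) F * M.transpose = _ * (-Matrix.J (Fin n) F)
    rw [SymplecticGroup.coe_inv, mul_assoc _ (Matrix.J (Fin n) F), mul_neg (Matrix.J (Fin n) F), Matrix.J_squared,
      neg_neg, mul_one]
  have hMM' : M * ((g⁻¹ : Matrix.symplecticGroup (Fin n) F) : Matrix (Fin n ⊕ Fin n) (Fin n ⊕ Fin n) F) = 1 :=
    congrArg Subtype.val (mul_inv_cancel g)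
  have hχ0 : M.charpoly ≠ 0 := M.charpoly_monic.ne_zero
  set mf := UniqueFactorizationMonoid.normalizedFactors M.charpoly with hmf
  set S := mf.toFinset with hS
  have hSirr : ∀ f ∈ S, Irreducible f ∧ f.Monic ∧ f ∣ M.charpoly := by
    intro f hf
    rw [hS, Multiset.mem_toFinset] at hf
    have h1 := UniqueFactorizationMonoid.irreducible_of_normalized_factor f hf
    refine ⟨h1, ?_, UniqueFactorizationMonoid.dvd_of_mem_normalizedFactors hf⟩
    have := UniqueFactorizationMonoid.normalize_normalized_factor f hf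
    rw [← this]
    exact monic_normalize h1.ne_zero
  have hprod : M.charpoly = ∏ f ∈ S, f ^ mf.count f := by
    rw [hS, ← Finset.prod_multiset_count]
    refine eq_of_monic_of_associated M.charpoly_monic ?_ (UniqueFactorizationMonoid.prod_normalizedFactors hχ0).symm
    have hmon := monic_multiset_prod_of_monic mf id (fun f hf => (hSirr f (Multiset.mem_toFinset.mpr hf)).2.1)
    rwa [Multiset.map_id] at hmon
  have hdeg : ∑ f ∈ S, mf.count f * f.natDegree = 2 * n := by
    have h1 := congrArg natDegree hprod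
    rw [Matrix.charpoly_natDegree_eq_dim, Fintype.card_sum, Fintype.card_fin,
      natDegree_prod _ _ (fun f hf => pow_ne_zero _ (hSirr f hf).1.ne_zero)] at h1
    rw [two_mul, h1]
    simp [natDegree_pow]
  let P : F[X] → Prop := fun f => Even f.natDegree ∧ f ∣ X ^ (q ^ (f.natDegree / 2) + 1) - 1
  let type : F[X] → ℕ × Bool := fun f => if P f then (f.natDegree / 2, true) else (f.natDegree, false)
  set S' := S.filter (fun f => f ≠ X - 1) with hS'
  -- the partner of a factor
  have hpair : ∀ f ∈ S', ¬ P f → ∃ f' ∈ S', f' ≠ f ∧ type f' = type f ∧ f'.natDegree = f.natDegree := by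
    intro f hf hnP
    rw [hS', Finset.mem_filter] at hf
    obtain ⟨hirr, hmon, hdvd⟩ := hSirr f hf.1
    haveI := Fact.mk hirr
    haveI : Module.Finite F (AdjoinRoot f) := (AdjoinRoot.powerBasis hirr.ne_zero).finite
    haveI : Finite (AdjoinRoot f) := Module.finite_of_finite F
    set μ := AdjoinRoot.root f with hμ
    have hμχ : aeval μ M.charpoly = 0 := by
      rw [AdjoinRoot.aeval_eq, AdjoinRoot.mk_eq_zero]; exact hdvd
    obtain ⟨hμa, hμinv⟩ := eigen_facts M _ hMM' hconj hMa hμχ
    have hμint : IsIntegral F μ⁻¹ := IsIntegral.of_finite F _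
    set f' := minpoly F μ⁻¹ with hf'
    have hf'dvd : f' ∣ M.charpoly := minpoly.dvd F _ hμinv
    have hf'S : f' ∈ S := by
      obtain ⟨f'', hf'', hass⟩ := UniqueFactorizationMonoid.exists_mem_normalizedFactors_of_dvd hχ0
        (minpoly.irreducible hμint) hf'dvd
      have he : f' = f'' :=
        eq_of_monic_of_associated (minpoly.monic hμint) (hSirr f'' (Multiset.mem_toFinset.mpr hf'')).2.1 hass
      rw [he, hS, Multiset.mem_toFinset]
      exact hf''
    have hμne1 : μ ≠ 1 := by
      intro h1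
      apply hf.2
      refine eq_of_monic_of_associated hmon (monic_X_sub_C 1) ?_ |>.trans (by simp)
      refine hirr.associated_of_dvd (irreducible_X_sub_C (1 : F)) ?_
      rw [← AdjoinRoot.mk_eq_zero, map_sub, AdjoinRoot.mk_X, map_one, map_one, ← hμ, h1, sub_self]
    have hfinr : Module.finrank F (AdjoinRoot f) = f.natDegree := by
      rw [(AdjoinRoot.powerBasis hirr.ne_zero).finrank, AdjoinRoot.powerBasis_dim]
    have hdeg' : f'.natDegree = f.natDegree := by
      rw [← IntermediateField.adjoin.finrank hμint, ← hfinr]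
      have htop : IntermediateField.adjoin F {μ⁻¹} = ⊤ := by
        rw [eq_top_iff]
        intro x _
        have h1 : μ ∈ IntermediateField.adjoin F {μ⁻¹} := by
          have := (IntermediateField.adjoin F {μ⁻¹}).inv_mem (IntermediateField.mem_adjoin_simple_self F μ⁻¹)
          rwa [inv_inv] at this
        have hx : x ∈ Algebra.adjoin F {μ} := by rw [hμ, AdjoinRoot.adjoinRoot_eq_top]; trivial
        exact (Algebra.adjoin_le (S := (IntermediateField.adjoin F {μ⁻¹}).toSubalgebra)
          (Set.singleton_subset_iff.mpr h1)) hx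
      rw [htop, IntermediateField.finrank_top']
    have hne : f' ≠ f := by
      intro heq
      apply hnP
      -- a Galois automorphism inverts `μ`
      have hev : aeval μ⁻¹ (minpoly F μ) = 0 := by
        rw [AdjoinRoot.minpoly_root hirr.ne_zero, hmon.leadingCoeff]
        simp only [inv_one, map_one, mul_one]
        exact (congrArg (aeval μ⁻¹) heq).symm.trans (minpoly.aeval F _)
      obtain ⟨σ, hσ⟩ := minpoly.exists_algEquiv_of_root (Algebra.IsAlgebraic.isAlgebraic μ) hev
      obtain ⟨⟨i, hi⟩, hσi⟩ := (FiniteField.bijective_frobeniusAlgEquivOfAlgebraic_pow F (AdjoinRoot f)).2 σ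
      have happ : ∀ (k : ℕ) (x : AdjoinRoot f),
          ((FiniteField.frobeniusAlgEquivOfAlgebraic F (AdjoinRoot f)) ^ k) x = x ^ q ^ k := by
        intro k x
        rw [AlgEquiv.coe_pow, FiniteField.coe_frobeniusAlgEquivOfAlgebraic_iterate]
      have hinv : μ ^ q ^ i = μ⁻¹ := by
        have h' := hσ
        rw [← hσi, happ, inv_pow, inv_eq_iff_eq_inv] at h'
        exact h'
      have hμ0 : μ ≠ 0 := by
        intro h0
        rw [h0, zero_pow hodd.pos.ne'] at hμa
        exact zero_ne_one hμa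
      have h2i : ((FiniteField.frobeniusAlgEquivOfAlgebraic F (AdjoinRoot f)) ^ (2 * i)) = 1 := by
        apply AlgEquiv.coe_algHom_injective
        apply AdjoinRoot.algHom_ext
        show ((FiniteField.frobeniusAlgEquivOfAlgebraic F (AdjoinRoot f)) ^ (2 * i)) μ = μ
        rw [happ, two_mul, pow_add, pow_mul, hinv, inv_pow, hinv, inv_inv]
      have hd2 : f.natDegree ∣ 2 * i := by
        rw [← hfinr, ← FiniteField.orderOf_frobeniusAlgEquivOfAlgebraic]
        exact orderOf_dvd_of_pow_eq_one h2i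
      rw [hfinr] at hi
      have hi0 : i ≠ 0 := by
        intro h0
        rw [h0, pow_zero, pow_one] at hinv
        have hsq : μ ^ 2 = 1 := by
          rw [pow_two]
          nth_rewrite 1 [hinv]
          exact inv_mul_cancel₀ hμ0
        obtain ⟨k, hk⟩ := hodd
        rw [hk, pow_succ, pow_mul, hsq, one_pow, one_mul] at hμa
        exact hμne1 hμa
      have hd : f.natDegree = 2 * i := by
        obtain ⟨c, hc⟩ := hd2
        have : c = 1 := by
          rcases c with _ | _ | c
          · omega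
          · rfl
          · have : f.natDegree * 2 ≤ f.natDegree * (c + 1 + 1) := Nat.mul_le_mul_left _ (by omega)
            omega
        rw [this, mul_one] at hc
        exact hc.symm
      refine ⟨⟨i, by omega⟩, ?_⟩
      rw [← AdjoinRoot.mk_eq_zero, map_sub, map_pow, AdjoinRoot.mk_X, map_one, ← hμ, sub_eq_zero, hd,
        Nat.mul_div_cancel_left i (by norm_num : 0 < 2), pow_succ, hinv, inv_mul_cancel₀ hμ0]
    have hnP' : ¬ P f' := by
      rintro ⟨he, hd⟩
      apply hnP
      rw [hdeg'] at he hd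
      refine ⟨he, ?_⟩
      obtain ⟨c, hc⟩ := hd
      have h0 := congrArg (aeval μ⁻¹) hc
      rw [map_mul, hf', minpoly.aeval, zero_mul, map_sub, map_pow, aeval_X, map_one, sub_eq_zero, inv_pow,
        inv_eq_one] at h0
      rw [← AdjoinRoot.mk_eq_zero, map_sub, map_pow, AdjoinRoot.mk_X, map_one, ← hμ, h0, sub_self]
    refine ⟨f', ?_, hne, by simp only [type, if_neg hnP, if_neg hnP', hdeg'], hdeg'⟩
    rw [hS', Finset.mem_filter]
    refine ⟨hf'S, fun h1 => ?_⟩
    have h0 : aeval μ⁻¹ f' = 0 := minpoly.aeval F _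
    rw [h1, map_sub, aeval_X, map_one, sub_eq_zero, inv_eq_one] at h0
    exact hμne1 h0
  set D := S'.image type with hD
  have hD1 : ∀ t ∈ D, 1 ≤ t.1 := by
    intro t ht
    obtain ⟨f, hf, rfl⟩ := Finset.mem_image.mp ht
    have hpos := (hSirr f (Finset.mem_filter.mp hf).1).1.natDegree_pos
    by_cases hP : P f
    · simp only [type, if_pos hP]
      obtain ⟨c, hc⟩ := hP.1
      omega
    · simp only [type, if_neg hP]
      omega
  have hsum2 : 2 * ∑ t ∈ D, t.1 ≤ ∑ f ∈ S', f.natDegree := by
    rw [Finset.mul_sum, ← Finset.sum_fiberwise_of_maps_to (g := type) (t := D) (fun f hf => Finset.mem_image_of_mem _ hf)]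
    refine Finset.sum_le_sum fun t ht => ?_
    obtain ⟨f, hf, rfl⟩ := Finset.mem_image.mp ht
    by_cases hP : P f
    · refine le_trans ?_ (Finset.single_le_sum (fun _ _ => Nat.zero_le _) (Finset.mem_filter.mpr ⟨hf, rfl⟩))
      simp only [type, if_pos hP]
      omega
    · obtain ⟨f', hf', hne, hty, hdeg'⟩ := hpair f hf hP
      refine le_trans ?_ (Finset.sum_le_sum_of_subset (s := ({f, f'} : Finset F[X])) ?_)
      · rw [Finset.sum_pair hne.symm, hdeg']
        simp only [type, if_neg hP]
        omega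
      · intro x hx
        rw [Finset.mem_insert, Finset.mem_singleton] at hx
        rcases hx with rfl | rfl
        · exact Finset.mem_filter.mpr ⟨hf, rfl⟩
        · exact Finset.mem_filter.mpr ⟨hf', hty⟩
  have hS'le : ∑ f ∈ S', f.natDegree ≤ ∑ f ∈ S', mf.count f * f.natDegree := by
    refine Finset.sum_le_sum fun f hf => Nat.le_mul_of_pos_left _ ?_
    exact Multiset.count_pos.mpr (Multiset.mem_toFinset.mp (Finset.mem_filter.mp hf).1)
  have hS'2n : ∑ f ∈ S', mf.count f * f.natDegree ≤ 2 * n :=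
    hdeg ▸ Finset.sum_le_sum_of_subset (Finset.filter_subset _ _)
  set L := D.lcm (torusOrd q) with hL
  have hdvdh : ∀ f ∈ S, f ∣ X ^ L - 1 := by
    intro f hf
    by_cases h1 : f = X - 1
    · subst h1
      simpa using sub_dvd_pow_sub_pow (X : F[X]) 1 L
    · have hf' : f ∈ S' := Finset.mem_filter.mpr ⟨hf, h1⟩
      obtain ⟨c, hc⟩ := Finset.dvd_lcm (f := torusOrd q) (Finset.mem_image_of_mem type hf')
      have hfN : f ∣ X ^ torusOrd q (type f) - 1 := by
        by_cases hP : P f
        · simp only [type, if_pos hP, torusOrd, if_true]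
          exact hP.2
        · simp only [type, if_neg hP, torusOrd, Bool.false_eq_true, if_false]
          refine irreducible_dvd_X_pow_sub_one (hSirr f hf).1 fun hX => ?_
          have hfX : f = X := eq_of_monic_of_associated (hSirr f hf).2.1 monic_X
            ((hSirr f hf).1.associated_of_dvd irreducible_X hX)
          have h0 : M.charpoly.coeff 0 = 0 := X_dvd_iff.mp (hfX ▸ (hSirr f hf).2.2)
          have hdet : M.det = 0 := by rw [Matrix.det_eq_sign_charpoly_coeff, h0, mul_zero]
          have := congrArg Matrix.det hMM'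
          rw [Matrix.det_mul, hdet, zero_mul, Matrix.det_one] at this
          exact zero_ne_one this
      refine hfN.trans ?_
      rw [show L = torusOrd q (type f) * c from hc, pow_mul]
      simpa using sub_dvd_pow_sub_pow ((X : F[X]) ^ torusOrd q (type f)) 1 c
  have hexp : ∀ T, (∀ f ∈ S, mf.count f ≤ p ^ T) → a ∣ L * p ^ T := by
    intro T hT
    have hdvd : M.charpoly ∣ X ^ (L * p ^ T) - 1 := by
      have e := sub_pow_char_pow (p := p) (n := T) ((X : F[X]) ^ L) 1
      rw [one_pow] at e
      rw [pow_mul, ← e, hprod]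
      refine Finset.prod_dvd_of_coprime ?_ fun f hf => (pow_dvd_pow_of_dvd (hdvdh f hf) _).trans (pow_dvd_pow _ (hT f hf))
      intro f hf f' hf' hne
      refine IsCoprime.pow ?_
      refine (hSirr f hf).1.coprime_iff_not_dvd.mpr fun hd => hne ?_
      exact eq_of_monic_of_associated (hSirr f hf).2.1 (hSirr f' hf').2.1 ((hSirr f hf).1.associated_of_dvd (hSirr f' hf').1 hd)
    obtain ⟨c, hc⟩ := hdvd
    have h1 := congrArg (aeval M) hc
    rw [map_mul, Matrix.aeval_self_charpoly, zero_mul, map_sub, map_pow, aeval_X, map_one, sub_eq_zero] at h1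
    rw [ha, orderOf_dvd_iff_pow_eq_one]
    exact Subtype.ext (by rw [SubmonoidClass.coe_pow, ← hM]; exact h1)
  have hpL : ¬ p ∣ L := by
    rw [hL]
    clear_value D
    have hall : ∀ t ∈ D, ¬ p ∣ torusOrd q t := fun t ht =>
      not_dvd_torusOrd (by rw [hqp]; exact dvd_pow_self p e'.ne_zero) Fintype.card_pos (hD1 t ht)
    clear hD hD1 hsum2 hexp hdvdh hL
    induction D using Finset.induction with
    | empty => simpa using (Fact.out : p.Prime).one_lt.ne'
    | insert t D _ ih =>
      rw [Finset.lcm_insert]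
      intro h
      rcases (Fact.out : p.Prime).dvd_mul.mp (h.trans (Nat.lcm_dvd_mul _ _)) with h | h
      · exact hall t (Finset.mem_insert_self _ _) h
      · exact ih (fun t ht => hall t (Finset.mem_insert_of_mem ht)) h
  obtain ⟨j, s, hps, hs⟩ := Nat.exists_eq_pow_mul_and_not_dvd hodd.pos.ne' p (Fact.out : p.Prime).one_lt.ne'
  refine ⟨D, hD1, by omega, j, s, hs, ?_, ?_⟩
  · obtain ⟨T, hT⟩ := pow_unbounded_of_one_lt (2 * n) (Fact.out : p.Prime).one_lt
    have hcount : ∀ f ∈ S, mf.count f ≤ p ^ T := fun f hf => by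
      have h1 := Finset.single_le_sum (f := fun f => mf.count f * f.natDegree) (fun _ _ => Nat.zero_le _) hf
      rw [hdeg] at h1
      exact le_trans (le_trans (Nat.le_mul_of_pos_right _ (hSirr f hf).1.natDegree_pos) h1) hT.le
    have hdvd := (Dvd.intro_left _ hs.symm).trans (hexp T hcount)
    exact (Nat.Coprime.pow_right T (((Fact.out : p.Prime).coprime_iff_not_dvd.mpr hps).symm)).dvd_of_dvd_mul_right hdvd
  · intro hj
    obtain ⟨f, hf, hfk⟩ : ∃ f ∈ S, p ^ (j - 1) < mf.count f := by
      by_contra hcon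
      push Not at hcon
      have h1 := (Dvd.intro _ hs.symm).trans (hexp (j - 1) hcon)
      obtain ⟨j', rfl⟩ : ∃ j', j = j' + 1 := ⟨j - 1, by omega⟩
      rw [Nat.add_sub_cancel, pow_succ, mul_comm L] at h1
      exact hpL ((Nat.mul_dvd_mul_iff_left (pow_pos (Fact.out : p.Prime).pos j')).mp h1)
    have hpodd : Odd (p ^ (j - 1)) := ((Fact.out : p.Prime).odd_of_ne_two hp2).pow
    obtain ⟨r, hr⟩ := hpodd
    refine ⟨r + 1, by omega, by omega, ?_⟩
    have hkey : ∑ f ∈ S', f.natDegree + (mf.count f - 1) ≤ 2 * n := by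
      by_cases h1 : f = X - 1
      · subst h1
        have hsplit : ∑ f ∈ S', mf.count f * f.natDegree + mf.count (X - 1 : F[X]) * 1 ≤ 2 * n := by
          rw [← hdeg, hS', Finset.filter_ne']
          rw [← Finset.sum_erase_add _ _ hf]
          have h1deg : (X - 1 : F[X]).natDegree = 1 := by
            rw [← map_one C, natDegree_X_sub_C]
          rw [h1deg]
        omega
      · have hf' : f ∈ S' := Finset.mem_filter.mpr ⟨hf, h1⟩
        have h3 : ∑ g ∈ S', g.natDegree + (mf.count f - 1) ≤ ∑ g ∈ S', mf.count g * g.natDegree := by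
          rw [← Finset.add_sum_erase _ _ hf', ← Finset.add_sum_erase _ _ hf']
          have hd1 := (hSirr f hf).1.natDegree_pos
          have h4 : ∑ g ∈ S'.erase f, g.natDegree ≤ ∑ g ∈ S'.erase f, mf.count g * g.natDegree := by
            refine Finset.sum_le_sum fun g hg => Nat.le_mul_of_pos_left _ ?_
            exact Multiset.count_pos.mpr (Multiset.mem_toFinset.mp (Finset.mem_filter.mp (Finset.mem_of_mem_erase hg)).1)
          have h5 : f.natDegree + (mf.count f - 1) ≤ mf.count f * f.natDegree := by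
            obtain ⟨k, hk⟩ : ∃ k, mf.count f = k + 1 := ⟨mf.count f - 1, by omega⟩
            rw [hk, add_mul, one_mul, Nat.add_sub_cancel]
            have := Nat.le_mul_of_pos_right k hd1
            omega
          omega
        omega
    omega

end Cfsg.Agent.Spectrum
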